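import Cfsg.Agent.G2FourJ2.Defs
import Cfsg.Agent.JankoTwo.GroupData

/-!
Kernel checks on the 416 points.
-/

set_option autoImplicit false
set_option maxRecDepth 100000
set_option maxHeartbeats 0

namespace Cfsg.Agent.G2FourJ2

open Cfsg.Agent.Compute Cfsg.Lie
open Cfsg.Agent.G2Four (K)

theorem add_rel : ∀ r : Fin 12, ∀ a b : K,
    wordCode [((r : ℕ), a), ((r : ℕ), b)] = wordCode [((r : ℕ), a + b)] := by decide +kernel

theorem sq_rel : ∀ r : Fin 12, ∀ t : K,
    wordCode [((r : ℕ), t), ((r : ℕ), t)] = idCode 9 416 := by decide +kernel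

theorem h_rel : ∀ r : Fin 12, ∀ a b : K, a ≠ 0 → b ≠ 0 →
    wordCode (chevG2.hWord (r : ℕ) a ++ chevG2.hWord (r : ℕ) b) =
      wordCode (chevG2.hWord (r : ℕ) (a * b)) := by decide +kernel

theorem nodes_ok : nodesOkB = true := by decide +kernel

theorem slp_ok : slpB = true := by decide +kernel

theorem lengths : rootCodes.length = 48 ∧ slpLeft.length = slpCodes.length ∧
    slpRight.length = slpCodes.length ∧ stabNodes.length = 4 ∧
    ∀ k : Fin 4, stabNodes.getD k 0 < 48 + slpCodes.length := by decide +kernel

theorem trans_tree : treeB 9 416 416 rootCodes tree416 = true ∧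
    getField 9 tree416.1 0 = 0 ∧ codePermB 9 416 tree416.1 = true := by decide +kernel

theorem hundred_tree : treeB 9 100 416 ((List.range 4).map fun k => node (stabNodes.getD k 0))
    tree100 = true := by decide +kernel

/-- The four elements fix the point 0 and induce the reflections on the second suborbit. -/
noncomputable def reflB : Bool :=
  allBelow 4 fun k => Nat.beq (getField 9 (node (stabNodes.getD k 0)) 0) 0 &&
    allBelow 315 fun i => Nat.blt (getField 9 sigCode i) 416 &&
      Nat.beq (getField 9 (node (stabNodes.getD k 0)) (getField 9 sigCode i))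
        (getField 9 sigCode (getField 9 (JankoTwo.genCodes.getD k 0) i))

theorem refl_ok : reflB = true := by decide +kernel

/-- The classification of the points by suborbit inverts the lists of the suborbits. -/
noncomputable def clsB : Bool :=
  allBelow 416 (fun x =>
    let c := getField 9 clsCode x
    (Nat.beq c 0 && Nat.beq x 0) ||
      (Nat.blt 0 c && Nat.blt c 101 && Nat.beq (getField 9 tree100.1 (Nat.sub c 1)) x) ||
      (Nat.blt 100 c && Nat.blt c 416 && Nat.beq (getField 9 sigCode (Nat.sub c 101)) x)) &&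
    Nat.beq (getField 9 clsCode 0) 0 &&
    allBelow 100 (fun i => Nat.blt (getField 9 tree100.1 i) 416 &&
      Nat.beq (getField 9 clsCode (getField 9 tree100.1 i)) (Nat.add i 1)) &&
    allBelow 315 (fun i => Nat.blt (getField 9 sigCode i) 416 &&
      Nat.beq (getField 9 clsCode (getField 9 sigCode i)) (Nat.add i 101))

theorem cls_ok : clsB = true := by decide +kernel

/-- The two further elements are quotients of products and fix the first point. -/
noncomputable def stabB : Bool :=
  Nat.beq stabCodes.length 2 && Nat.beq stabWords.length 2 &&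
  allBelow 2 fun k =>
    codePermB 9 416 (stabCodes.getD k 0) &&
      Nat.beq (getField 9 (stabCodes.getD k 0) (getField 9 tree100.1 0)) (getField 9 tree100.1 0) &&
      allBelow 416 fun x =>
        Nat.beq (getField 9 (hCode (stabWords.getD k ([], [])).1) (getField 9 (stabCodes.getD k 0) x))
          (getField 9 (hCode (stabWords.getD k ([], [])).2) x)

theorem stab_ok : stabB = true := by decide +kernel

theorem stab_words : ∀ k : Fin 2, ∀ j ∈ (stabWords.getD k ([], [])).1 ++
    (stabWords.getD k ([], [])).2, j < 4 := by decide +kernel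

theorem small_trees : treeB 9 36 416 stabCodes tree36 = true ∧
    treeB 9 63 416 stabCodes tree63 = true := by decide +kernel

theorem small_trees_cover : allBelow 100 (fun i => Nat.beq i 0 ||
    (List.range 36).any (fun j => Nat.beq (getField 9 tree36.1 j) (getField 9 tree100.1 i)) ||
    (List.range 63).any (fun j => Nat.beq (getField 9 tree63.1 j) (getField 9 tree100.1 i))) = true := by
  decide +kernel

/-- The size and tree of the two orbits. -/
def small : Fin 2 → ℕ × (ℕ × ℕ × ℕ) := ![(36, tree36), (63, tree63)]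

theorem small_sub' : allBelow 2 (fun k => allBelow ([36, 63].getD k 0) fun j =>
    (List.range 100).any fun i => Nat.blt 0 i &&
      Nat.beq (getField 9 tree100.1 i) (getField 9 ([tree36, tree63].getD k (0, 0, 0)).1 j)) = true := by
  decide +kernel

theorem small_sep' : allBelow 2 (fun a => allBelow 2 fun b =>
    allBelow ([36, 63].getD a 0) fun i => allBelow ([36, 63].getD b 0) fun j =>
      (Nat.beq a b && Nat.beq i j) ||
      not (Nat.beq (getField 9 ([tree36, tree63].getD a (0, 0, 0)).1 i)
        (getField 9 ([tree36, tree63].getD b (0, 0, 0)).1 j))) = true := by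
  decide +kernel

theorem small_trees_sub (k : Fin 2) (j : ℕ) (hj : j < (![36, 63] : Fin 2 → ℕ) k) :
    ∃ i : Fin 100, i ≠ 0 ∧ getField 9 tree100.1 i =
      getField 9 ((![tree36, tree63] : Fin 2 → ℕ × ℕ × ℕ) k).1 j := by
  have h := allBelow_eq_true.mp small_sub' k k.2
  fin_cases k <;>
  · have := allBelow_eq_true.mp h j (by simpa using hj)
    simp only [List.any_eq_true, List.mem_range, Bool.and_eq_true, Nat.blt_eq, Nat.beq_eq] at this
    obtain ⟨i, hi, hi0, he⟩ := this
    exact ⟨⟨i, hi⟩, fun e => by simp [Fin.ext_iff] at e; omega, by simpa using he⟩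

theorem small_trees_sep (a b : Fin 2) (i : ℕ) (hi : i < (![36, 63] : Fin 2 → ℕ) a) (j : ℕ)
    (hj : j < (![36, 63] : Fin 2 → ℕ) b)
    (e : getField 9 ((![tree36, tree63] : Fin 2 → ℕ × ℕ × ℕ) a).1 i =
      getField 9 ((![tree36, tree63] : Fin 2 → ℕ × ℕ × ℕ) b).1 j) : a = b ∧ i = j := by
  have h := allBelow_eq_true.mp (allBelow_eq_true.mp small_sep' a a.2) b b.2
  fin_cases a <;> fin_cases b <;>
  · have := allBelow_eq_true.mp (allBelow_eq_true.mp h i (by simpa using hi)) j
      (by simpa using hj)
    simp at e this ⊢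
    first | omega | (simp [e] at this; omega) | simp [e] at this

theorem small_trees_inj (k : Fin 2) (a : ℕ) (ha : a < (![36, 63] : Fin 2 → ℕ) k) (b : ℕ)
    (hb : b < (![36, 63] : Fin 2 → ℕ) k)
    (e : getField 9 ((![tree36, tree63] : Fin 2 → ℕ × ℕ × ℕ) k).1 a =
      getField 9 ((![tree36, tree63] : Fin 2 → ℕ × ℕ × ℕ) k).1 b) : a = b :=
  (small_trees_sep k k a ha b hb e).2

theorem small_trees_disj (a b : Fin 2) (hab : a ≠ b) (i : ℕ)
    (hi : i < (![36, 63] : Fin 2 → ℕ) a) (j : ℕ) (hj : j < (![36, 63] : Fin 2 → ℕ) b) :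
    getField 9 ((![tree36, tree63] : Fin 2 → ℕ × ℕ × ℕ) a).1 i ≠
      getField 9 ((![tree36, tree63] : Fin 2 → ℕ × ℕ × ℕ) b).1 j :=
  fun e => hab (small_trees_sep a b i hi j hj e).1

end Cfsg.Agent.G2FourJ2
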