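import Cfsg.Agent.G2FourJ2.Defs
import Cfsg.Agent.JankoTwo.GroupData

/-!
The suborbits of an axis stabiliser on the 315 axes.
-/

set_option autoImplicit false
set_option maxRecDepth 100000
set_option maxHeartbeats 0

namespace Cfsg.Agent.G2FourJ2

open Cfsg.Agent.Compute

/-- The five trees. -/
def trees315 : List (ℕ × ℕ × ℕ) := [tree315_0, tree315_1, tree315_2, tree315_3, tree315_4]

/-- The five suborbit lengths. -/
def sizes315 : List ℕ := [10, 32, 32, 80, 160]

theorem trees315_ok : ∀ k : Fin 5,
    treeB 9 (sizes315.getD k 0) 315 JankoTwo.j2L1.gens (trees315.getD k (0, 0, 0)) = true := by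
  decide +kernel

theorem trees315_cover : allBelow 315 (fun i => Nat.beq i 0 ||
    (List.range 5).any (fun k => (List.range (sizes315.getD k 0)).any
      (fun j => Nat.beq (getField 9 (trees315.getD k (0, 0, 0)).1 j) i))) = true := by
  decide +kernel

theorem trees315_inj : ∀ k : Fin 5, ∀ a b : Fin 160, (a : ℕ) < sizes315.getD k 0 →
    (b : ℕ) < sizes315.getD k 0 → getField 9 (trees315.getD k (0, 0, 0)).1 a =
      getField 9 (trees315.getD k (0, 0, 0)).1 b → (a : ℕ) = b := by
  decide +kernel

theorem trees315_sep : allBelow 5 (fun a => allBelow 5 fun b => Nat.beq a b ||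
    allBelow (sizes315.getD a 0) fun i => allBelow (sizes315.getD b 0) fun j =>
      not (Nat.beq (getField 9 (trees315.getD a (0, 0, 0)).1 i)
        (getField 9 (trees315.getD b (0, 0, 0)).1 j))) = true := by
  decide +kernel

theorem trees315_disj (a b : Fin 5) (hab : a ≠ b) (i : ℕ) (hi : i < sizes315.getD a 0) (j : ℕ)
    (hj : j < sizes315.getD b 0) :
    getField 9 (trees315.getD a (0, 0, 0)).1 i ≠ getField 9 (trees315.getD b (0, 0, 0)).1 j := by
  have h := allBelow_eq_true.mp (allBelow_eq_true.mp trees315_sep a a.2) b b.2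
  simp only [Bool.or_eq_true, allBelow_eq_true, Nat.beq_eq] at h
  rcases h with h | h
  · exact absurd (Fin.ext h) hab
  · intro e
    have := h i hi j hj
    rw [e, Bool.not_eq_true', ← Bool.not_eq_true, Nat.beq_eq] at this
    exact this rfl

theorem trees315_nz : allBelow 5 (fun a => allBelow (sizes315.getD a 0) fun i =>
    Nat.blt 0 (getField 9 (trees315.getD a (0, 0, 0)).1 i)) = true := by
  decide +kernel

theorem trees315_ne (a : Fin 5) (i : ℕ) (hi : i < sizes315.getD a 0) :
    getField 9 (trees315.getD a (0, 0, 0)).1 i ≠ 0 := by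
  have h := allBelow_eq_true.mp (allBelow_eq_true.mp trees315_nz a a.2) i hi
  rw [Nat.blt_eq] at h
  omega

end Cfsg.Agent.G2FourJ2
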