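import Cfsg.Agent.G2FourJ2.Data
import Cfsg.Agent.G2Four.Rep
import Cfsg.Agent.Compute.Perm

/-!
The 416-point permutations of the root elements of `G2(4)` and Boolean checks on them.
-/

set_option autoImplicit false

namespace Cfsg.Agent.G2FourJ2

open Cfsg.Agent.Compute Cfsg.Lie
open Cfsg.Agent.G2Four (K enc)

/-- The numbering of the 416 points is the identity. -/
noncomputable def rep416 : Rep (Equiv.Perm (Fin 416)) (Fin 416) :=
  permRep 9 416 (Equiv.refl _) (by norm_num) (by norm_num)

/-- The code of the root element `x_r(t)`. -/
noncomputable def rootCode (r : ℕ) (t : K) : ℕ :=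
  rootCodes.getD (Nat.add (Nat.mul 4 r) (enc t)) 0

/-- The code of a word of root elements. -/
noncomputable def wordCode (l : List (ℕ × K)) : ℕ :=
  List.rec (motive := fun _ => ℕ) (idCode 9 416)
    (fun p _ r => compCode 9 416 (rootCode p.1 p.2) r) l

/-- All nodes: root elements first, then products. -/
noncomputable def node (i : ℕ) : ℕ :=
  cond (Nat.blt i 48) (rootCodes.getD i 0) (slpCodes.getD (Nat.sub i 48) 0)

/-- Each product node is the product of two earlier nodes. -/
noncomputable def slpB : Bool :=
  allBelow slpCodes.length fun k =>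
    Nat.blt (slpLeft.getD k 0) (Nat.add 48 k) && Nat.blt (slpRight.getD k 0) (Nat.add 48 k) &&
      Nat.beq (slpCodes.getD k 0)
        (compCode 9 416 (node (slpLeft.getD k 0)) (node (slpRight.getD k 0)))

/-- All nodes are permutations. -/
noncomputable def nodesOkB : Bool :=
  allBelow (Nat.add 48 slpCodes.length) fun i => codePermB 9 416 (node i)

/-- A tree: each later point is the image of an earlier point under one of the generators. -/
noncomputable def treeB (w n N : ℕ) (gens : List ℕ) (T : ℕ × ℕ × ℕ) : Bool :=
  allBelow n fun i => Nat.blt (getField 9 T.1 i) N &&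
    (Nat.beq i 0 || (Nat.blt (getField 9 T.2.1 i) i && Nat.blt (getField 9 T.2.2 i) gens.length &&
      Nat.beq (getField w (gens.getD (getField 9 T.2.2 i) 0) (getField 9 T.1 (getField 9 T.2.1 i)))
        (getField 9 T.1 i)))

/-- The code of a product of the four elements inducing the reflections. -/
noncomputable def hCode (l : List ℕ) : ℕ :=
  List.rec (motive := fun _ => ℕ) (idCode 9 416)
    (fun k _ r => compCode 9 416 (node (stabNodes.getD k 0)) r) l

end Cfsg.Agent.G2FourJ2
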