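import Mathlib

/-!
Maximality of a point stabiliser from unions of suborbits.
-/

set_option autoImplicit false

namespace Cfsg.Agent.G2FourJ2

variable {G : Type*} [Group G] {β : Type*} [MulAction G β]

/-- If every point of the orbit other than `x` lies in one of the sets `S i`, each of which lies in
one orbit of the stabiliser, and no proper union of these sets together with `x` has size dividing
the orbit length, then the stabiliser of `x` is maximal. -/
theorem isCoatom_stab [Finite G] (H : Subgroup G) (x : β) {r : ℕ} (S : Fin r → Finset β) (n : ℕ)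
    (hn : (MulAction.orbit H x).ncard = n) (hn2 : 1 < n)
    (hx : ∀ i, x ∉ S i)
    (hsub : ∀ i, ∀ y ∈ S i, y ∈ MulAction.orbit H x)
    (hcov : ∀ y ∈ MulAction.orbit H x, y ≠ x → ∃ i, y ∈ S i)
    (hdisj : ∀ i j, i ≠ j → Disjoint (S i) (S j))
    (hone : ∀ i, ∀ y ∈ S i, ∀ z ∈ S i, ∃ g ∈ H, g • x = x ∧ g • y = z)
    (hdiv : ∀ T : Finset (Fin r), T.Nonempty → (1 + ∑ i ∈ T, (S i).card) ∣ n → T = Finset.univ) :
    IsCoatom ((H ⊓ MulAction.stabilizer G x).subgroupOf H) := by
  classical
  set K := (H ⊓ MulAction.stabilizer G x).subgroupOf H with hKdef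
  have hKeq : K = MulAction.stabilizer H x := by
    ext h
    simp [hKdef, Subgroup.mem_subgroupOf, MulAction.mem_stabilizer_iff, Subgroup.smul_def]
  rw [hKeq]
  constructor
  · intro htop
    have h1 : MulAction.orbit H x = {x} := by
      refine Set.eq_singleton_iff_unique_mem.mpr ⟨MulAction.mem_orbit_self x, ?_⟩
      rintro _ ⟨h, rfl⟩
      exact (htop.symm ▸ Subgroup.mem_top h : h ∈ MulAction.stabilizer H x)
    rw [h1, Set.ncard_singleton] at hn
    omega
  intro L hL
  set A : Set β := MulAction.orbit L x with hA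
  have hAsub : A ⊆ MulAction.orbit H x := by
    rintro _ ⟨l, rfl⟩; exact ⟨(l : H), rfl⟩
  let T : Finset (Fin r) := Finset.univ.filter fun i => ∃ y ∈ S i, y ∈ A
  have hfull : ∀ i ∈ T, ∀ z ∈ S i, z ∈ A := by
    intro i hi z hz
    obtain ⟨y, hy, hyA⟩ := (Finset.mem_filter.mp hi).2
    obtain ⟨g, hgH, hgx, hgy⟩ := hone i y hy z hz
    obtain ⟨l, rfl⟩ := hyA
    have hgL : (⟨g, hgH⟩ : H) ∈ L := hL.le (show g • x = x from hgx)
    exact ⟨⟨⟨g, hgH⟩, hgL⟩ * l, (mul_smul _ _ _).trans hgy⟩
  have hAeq : A = ((insert x (T.biUnion S) : Finset β) : Set β) := by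
    ext y
    simp only [Finset.coe_insert, Finset.coe_biUnion, Set.mem_insert_iff, Set.mem_iUnion,
      Finset.mem_coe]
    constructor
    · intro hy
      by_cases hyx : y = x
      · exact Or.inl hyx
      obtain ⟨i, hi⟩ := hcov y (hAsub hy) hyx
      exact Or.inr ⟨i, Finset.mem_filter.mpr ⟨Finset.mem_univ _, y, hi, hy⟩, hi⟩
    · rintro (rfl | ⟨i, hi, hy⟩)
      · exact MulAction.mem_orbit_self _
      · exact hfull i hi y hy
  have hcard : A.ncard = 1 + ∑ i ∈ T, (S i).card := by
    rw [hAeq, Set.ncard_coe_finset, Finset.card_insert_of_notMem, Finset.card_biUnion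
      (fun i _ j _ h => hdisj i j h), add_comm]
    simpa using fun i _ => hx i
  have hLA := Nat.card_congr (MulAction.orbitProdStabilizerEquivGroup L x)
  rw [Nat.card_prod, Nat.card_coe_set_eq, ← hA] at hLA
  have e : Nat.card (MulAction.stabilizer L x) = Nat.card (MulAction.stabilizer H x) :=
    Nat.card_congr
      { toFun := fun a => ⟨((a : L) : H), a.2⟩
        invFun := fun a => ⟨⟨(a : H), hL.le a.2⟩, a.2⟩
        left_inv := fun a => rfl
        right_inv := fun a => rfl }
  have hHn := Nat.card_congr (MulAction.orbitProdStabilizerEquivGroup H x)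
  rw [Nat.card_prod, Nat.card_coe_set_eq, hn] at hHn
  have hd : A.ncard ∣ n := by
    have := Subgroup.card_subgroup_dvd_card L
    rw [← hHn, ← hLA, e] at this
    exact Nat.dvd_of_mul_dvd_mul_right Nat.card_pos this
  have hle : Nat.card L = A.ncard * Nat.card (MulAction.stabilizer H x) := by rw [← hLA, e]
  have hT : T.Nonempty := by
    rw [Finset.nonempty_iff_ne_empty]
    intro h0
    rw [h0, Finset.sum_empty] at hcard
    rw [hcard, Nat.add_zero, one_mul] at hle
    exact hL.ne (Subgroup.eq_of_le_of_card_ge hL.le hle.le)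
  have huniv := hdiv T hT (hcard ▸ hd)
  refine Subgroup.eq_top_of_card_eq L ?_
  have hall : A = MulAction.orbit H x := by
    refine Set.Subset.antisymm hAsub fun y hy => ?_
    by_cases hyx : y = x
    · exact hyx ▸ MulAction.mem_orbit_self x
    obtain ⟨i, hi⟩ := hcov y hy hyx
    exact hfull i (huniv ▸ Finset.mem_univ i) y hi
  rw [hle, hall, hn, hHn]

/-- Conjugation by an element of `H` moves a maximal stabiliser to a maximal stabiliser. -/
theorem isCoatom_stab_smul (H : Subgroup G) (x : β) {g : G} (hg : g ∈ H)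
    (hco : IsCoatom ((H ⊓ MulAction.stabilizer G x).subgroupOf H)) :
    IsCoatom ((H ⊓ MulAction.stabilizer G (g • x)).subgroupOf H) := by
  have h1 := (OrderIso.isCoatom_iff (MulEquiv.mapSubgroup (MulAut.conj (⟨g, hg⟩ : H))) _).2 hco
  convert h1 using 1
  ext h
  change _ ↔ h ∈ Subgroup.map (MulAut.conj (⟨g, hg⟩ : H)).toMonoidHom _
  rw [Subgroup.mem_map_equiv]
  simp [Subgroup.mem_subgroupOf, MulAction.mem_stabilizer_iff, MulAut.conj_symm_apply, mul_smul,
    inv_smul_eq_iff]

end Cfsg.Agent.G2FourJ2
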