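import Cfsg.Agent.G2FourJ2.Rep
import Cfsg.Agent.G2FourJ2.Check315
import Cfsg.Agent.G2FourJ2.Suborbit
import Cfsg.Agent.JankoTwo.Hundred
import Cfsg.Agent.JankoTwo.Orders
import Cfsg.Agent.JankoTwo.Cosets

/-!
`G2(4)` has a maximal subgroup `J2` acting primitively on each of its suborbits on the 416 cosets.
-/

set_option autoImplicit false

namespace Cfsg.Agent.G2FourJ2

open Cfsg.Agent.Compute Cfsg.Spor
open Cfsg.Agent.JankoTwo (genC genC_ok K315 rep315 range_piJ_gens card_K315)

variable {G : Type*} [Group G] (φ : G →* Equiv.Perm (Fin 416))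

/-- The point with a given number. -/
def pnt (i : ℕ) : Fin 416 := ⟨i % 416, Nat.mod_lt _ (by norm_num)⟩

theorem pnt_val {i : ℕ} (h : i < 416) : (pnt i : ℕ) = i := Nat.mod_eq_of_lt h

attribute [local irreducible] compCode idCode node in
theorem hCode_cons (k : ℕ) (l : List ℕ) :
    hCode (k :: l) = compCode 9 416 (node (stabNodes.getD k 0)) (hCode l) := rfl

attribute [local irreducible] compCode idCode node in
theorem hCode_nil : hCode [] = idCode 9 416 := rfl

theorem node_mem (hroot : ∀ i < 48, rep416.den (node i) ∈ φ.range) :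
    ∀ i < 48 + slpCodes.length, rep416.den (node i) ∈ φ.range := by
  intro i
  induction i using Nat.strong_induction_on with
  | _ i ih =>
    intro hi
    by_cases h48 : i < 48
    · exact hroot i h48
    have hk := allBelow_eq_true.mp slp_ok (i - 48) (by omega)
    simp only [Bool.and_eq_true, Nat.blt_eq, Nat.beq_eq] at hk
    obtain ⟨⟨ha, hb⟩, hab⟩ := hk
    replace ha : slpLeft.getD (i - 48) 0 < 48 + (i - 48) := ha
    replace hb : slpRight.getD (i - 48) 0 < 48 + (i - 48) := hb
    have hn : node i = slpCodes.getD (i - 48) 0 := by simp [node, Nat.blt_eq, h48, cond_eq]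
    rw [hn, hab, den_comp (node_ok (by omega)) (node_ok (by omega))]
    exact mul_mem (ih _ (by omega) (by omega)) (ih _ (by omega) (by omega))

theorem tree_reach {n : ℕ} {gens : List ℕ} {T : ℕ × ℕ × ℕ} {K : Subgroup G}
    (h : treeB 9 n 416 gens T = true) (hok : ∀ g ∈ gens, CodePerm 9 416 g)
    (hK : ∀ g ∈ gens, ∃ x ∈ K, φ x = rep416.den g) :
    ∀ i < n, getField 9 T.1 i < 416 ∧ ∃ x ∈ K, φ x (pnt (getField 9 T.1 0)) = pnt (getField 9 T.1 i) := by
  intro i
  induction i using Nat.strong_induction_on with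
  | _ i ih =>
    intro hi
    have hi' := allBelow_eq_true.mp h i hi
    simp only [Bool.and_eq_true, Bool.or_eq_true, Nat.blt_eq, Nat.beq_eq] at hi'
    obtain ⟨hlt, h0 | ⟨⟨hp, hg⟩, he⟩⟩ := hi'
    · subst h0; exact ⟨hlt, 1, one_mem _, by simp⟩
    obtain ⟨hplt, x, hx, hxe⟩ := ih _ hp (by omega)
    have hmem : gens.getD (getField 9 T.2.2 i) 0 ∈ gens := by
      rw [List.getD_eq_getElem _ _ hg]; exact List.getElem_mem hg
    obtain ⟨y, hy, hye⟩ := hK _ hmem
    refine ⟨hlt, y * x, mul_mem hy hx, Fin.ext ?_⟩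
    rw [map_mul, Equiv.Perm.mul_apply, hxe, hye, den_apply416 (hok _ hmem), pnt_val hplt,
      pnt_val hlt]
    exact he

theorem tree_reach315 {n : ℕ} {T : ℕ × ℕ × ℕ} (h : treeB 9 n 315 JankoTwo.j2L1.gens T = true) :
    ∀ i < n, ∃ hi : getField 9 T.1 i < 315, ∃ h0 : getField 9 T.1 0 < 315, ∃ q ∈ K315, q 0 = 0 ∧
      q ⟨_, h0⟩ = ⟨_, hi⟩ := by
  intro i
  induction i using Nat.strong_induction_on with
  | _ i ih =>
    intro hi
    have hi' := allBelow_eq_true.mp h i hi
    simp only [Bool.and_eq_true, Bool.or_eq_true, Nat.blt_eq, Nat.beq_eq] at hi'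
    obtain ⟨hlt, h0 | ⟨⟨hp, hg⟩, he⟩⟩ := hi'
    · subst h0; exact ⟨hlt, hlt, 1, one_mem _, rfl, rfl⟩
    obtain ⟨hplt, h0, q, hq, hq0, hqe⟩ := ih _ hp (by omega)
    have hmem : JankoTwo.j2L1.gens.getD (getField 9 T.2.2 i) 0 ∈ JankoTwo.j2L1.gens := by
      rw [List.getD_eq_getElem _ _ hg]; exact List.getElem_mem hg
    obtain ⟨hok, hgK⟩ := JankoTwo.gen1_spec hmem
    refine ⟨hlt, h0, rep315.den (JankoTwo.j2L1.gens.getD (getField 9 T.2.2 i) 0) * q,
      mul_mem hgK hq, ?_, ?_⟩
    · rw [Equiv.Perm.mul_apply, hq0, JankoTwo.den_fix0 hmem]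
    · rw [Equiv.Perm.mul_apply, hqe]
      exact Fin.ext ((JankoTwo.den_apply hok _).trans he)

theorem sig_lt {i : ℕ} (hi : i < 315) : getField 9 sigCode i < 416 := by
  have h := cls_ok
  simp only [clsB, Bool.and_eq_true, allBelow_eq_true, Nat.blt_eq, Nat.beq_eq] at h
  exact (h.2 i hi).1

theorem cls_sig {i : ℕ} (hi : i < 315) :
    getField 9 clsCode (getField 9 sigCode i) = i + 101 := by
  have h := cls_ok
  simp only [clsB, Bool.and_eq_true, allBelow_eq_true, Nat.blt_eq, Nat.beq_eq] at h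
  exact (h.2 i hi).2

theorem hund_lt {i : ℕ} (hi : i < 100) : getField 9 tree100.1 i < 416 := by
  have h := cls_ok
  simp only [clsB, Bool.and_eq_true, allBelow_eq_true, Nat.blt_eq, Nat.beq_eq] at h
  exact (h.1.2 i hi).1

theorem cls_hund {i : ℕ} (hi : i < 100) :
    getField 9 clsCode (getField 9 tree100.1 i) = i + 1 := by
  have h := cls_ok
  simp only [clsB, Bool.and_eq_true, allBelow_eq_true, Nat.blt_eq, Nat.beq_eq] at h
  exact (h.1.2 i hi).2

/-- The first suborbit point with a given number. -/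
def hund (i : Fin 100) : Fin 416 := pnt (getField 9 tree100.1 i)

/-- The second suborbit point with a given number. -/
def sig (i : Fin 315) : Fin 416 := pnt (getField 9 sigCode i)

theorem cls_cases (x : Fin 416) :
    x = pnt 0 ∨ (∃ i, hund i = x) ∨ ∃ i, sig i = x := by
  have h := cls_ok
  simp only [clsB, Bool.and_eq_true, allBelow_eq_true, Bool.or_eq_true, Nat.blt_eq,
    Nat.beq_eq] at h
  rcases h.1.1.1 x x.2 with (⟨-, h0⟩ | ⟨⟨h1, h2⟩, h3⟩) | ⟨⟨h1, h2⟩, h3⟩
  · exact Or.inl (Fin.ext (h0.trans (pnt_val (by norm_num)).symm))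
  · replace h3 : getField 9 tree100.1 (getField 9 clsCode x - 1) = x := h3
    exact Or.inr (Or.inl ⟨⟨getField 9 clsCode x - 1, by omega⟩, Fin.ext (by
      rw [hund, pnt_val (hund_lt (by omega))]; exact h3)⟩)
  · replace h3 : getField 9 sigCode (getField 9 clsCode x - 101) = x := h3
    exact Or.inr (Or.inr ⟨⟨getField 9 clsCode x - 101, by omega⟩, Fin.ext (by
      rw [sig, pnt_val (sig_lt (by omega))]; exact h3)⟩)

theorem cls_zero : getField 9 clsCode 0 = 0 := by
  have h := cls_ok
  simp only [clsB, Bool.and_eq_true, allBelow_eq_true, Nat.blt_eq, Nat.beq_eq] at h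
  exact h.1.1.2

theorem hund_ne (i : Fin 100) : hund i ≠ pnt 0 := fun e => by
  have h := congrArg (fun x : Fin 416 => getField 9 clsCode (x : ℕ)) e
  simp only [hund, pnt_val (hund_lt i.2), pnt_val (show (0 : ℕ) < 416 by norm_num),
    cls_hund i.2, cls_zero] at h
  omega

theorem sig_ne (i : Fin 315) : sig i ≠ pnt 0 := fun e => by
  have h := congrArg (fun x : Fin 416 => getField 9 clsCode (x : ℕ)) e
  simp only [sig, pnt_val (sig_lt i.2), pnt_val (show (0 : ℕ) < 416 by norm_num),
    cls_sig i.2, cls_zero] at h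
  omega

theorem hund_ne_sig (i : Fin 100) (j : Fin 315) : hund i ≠ sig j := fun e => by
  have h := congrArg (fun x : Fin 416 => getField 9 clsCode (x : ℕ)) e
  simp only [hund, sig, pnt_val (hund_lt i.2), pnt_val (sig_lt j.2), cls_hund i.2, cls_sig j.2] at h
  omega

theorem hund_inj : Function.Injective hund := fun i j e => by
  have h := congrArg (fun x : Fin 416 => getField 9 clsCode (x : ℕ)) e
  simp only [hund, pnt_val (hund_lt i.2), pnt_val (hund_lt j.2), cls_hund i.2, cls_hund j.2] at h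
  exact Fin.ext (by omega)

theorem sig_inj : Function.Injective sig := fun i j e => by
  have h := congrArg (fun x : Fin 416 => getField 9 clsCode (x : ℕ)) e
  simp only [sig, pnt_val (sig_lt i.2), pnt_val (sig_lt j.2), cls_sig i.2, cls_sig j.2] at h
  exact Fin.ext (by omega)

theorem refl_spec (k : Fin 4) :
    rep416.den (node (stabNodes.getD k 0)) (pnt 0) = pnt 0 ∧
      ∀ i : Fin 315, rep416.den (node (stabNodes.getD k 0)) (sig i) =
        sig (rep315.den (genC k) i) := by
  have h := allBelow_eq_true.mp refl_ok k k.2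
  simp only [Bool.and_eq_true, allBelow_eq_true, Nat.blt_eq, Nat.beq_eq] at h
  have hok := node_ok (lengths.2.2.2.2 k)
  refine ⟨Fin.ext ?_, fun i => Fin.ext ?_⟩
  · rw [den_apply416 hok, pnt_val (by norm_num)]; exact h.1
  · obtain ⟨hi1, hi2⟩ := h.2 i i.2
    rw [den_apply416 hok, sig, pnt_val hi1, hi2, sig, pnt_val (sig_lt (Fin.is_lt _)),
      JankoTwo.den_apply (genC_ok k)]
    rfl

/-- The main computation, for any group with such an action. -/
theorem main [Finite G] (hcard : Nat.card G = 251596800)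
    (hroot : ∀ i < 48, rep416.den (node i) ∈ φ.range) :
    ∃ H : Subgroup G, IsCoatom H ∧ IsoJ2 H ∧
      ∀ x : G, x ∉ H → IsCoatom ((H ⊓ H.map (MulAut.conj x).toMonoidHom).subgroupOf H) := by
  classical
  have hnode := node_mem φ hroot
  let act : MulAction G (Fin 416) := MulAction.compHom (Fin 416) φ
  have hsm : ∀ (g : G) (x : Fin 416), g • x = φ g x := fun g x => rfl
  set H : Subgroup G := MulAction.stabilizer G (pnt 0) with hH
  -- transitivity
  have htrans : ∀ x : Fin 416, ∃ g : G, g • pnt 0 = x := by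
    obtain ⟨h1, h2, h3⟩ := trans_tree
    obtain ⟨hm, hbij⟩ := codePerm_of_check h3
    intro x
    obtain ⟨i, hi⟩ := hbij.2 x
    obtain ⟨-, g, -, hg⟩ := tree_reach φ (K := ⊤) h1
      (fun c hc => by
        obtain ⟨j, hj, rfl⟩ := List.getElem_of_mem hc
        have hj' : j < 48 := lengths.1 ▸ hj
        have h := node_ok (i := j) (by omega)
        rwa [node_lt48 hj', List.getD_eq_getElem _ _ hj] at h)
      (fun c hc => by
        obtain ⟨j, hj, rfl⟩ := List.getElem_of_mem hc
        have hj' : j < 48 := lengths.1 ▸ hj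
        obtain ⟨g, hg⟩ := hroot j hj'
        exact ⟨g, trivial, by rw [hg, node_lt48 hj', List.getD_eq_getElem _ _ hj]⟩) i i.2
    refine ⟨g, ?_⟩
    rw [hsm]
    rw [h2] at hg
    rw [hg, ← hi]
    exact Fin.ext (pnt_val (hm i i.2))
  have horb : MulAction.orbit G (pnt 0) = Set.univ :=
    Set.eq_univ_of_forall fun x => htrans x
  have hH6 : Nat.card H = 604800 := by
    have h := Nat.card_congr (MulAction.orbitProdStabilizerEquivGroup G (pnt 0))
    rw [Nat.card_prod, Nat.card_coe_set_eq, horb, Set.ncard_univ, Nat.card_fin, hcard, ← hH] at h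
    omega
  -- the four elements inducing the reflections
  have hk : ∀ k : Fin 4, ∃ g : G, φ g = rep416.den (node (stabNodes.getD k 0)) := fun k =>
    hnode _ (lengths.2.2.2.2 k)
  choose hg hgφ using hk
  set Hg : Subgroup G := Subgroup.closure (Set.range hg) with hHg
  have hle : Hg ≤ H := by
    rw [hHg, Subgroup.closure_le]
    rintro _ ⟨k, rfl⟩
    change hg k • pnt 0 = pnt 0
    rw [hsm, hgφ]
    exact (refl_spec k).1
  have hprop : ∀ g ∈ Hg, ∃ q ∈ K315, ∀ i, g • sig i = sig (q i) := by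
    intro g hgm
    induction hgm using Subgroup.closure_induction with
    | mem x hx =>
      obtain ⟨k, rfl⟩ := hx
      refine ⟨rep315.den (genC k), ?_, fun i => ?_⟩
      · rw [K315, range_piJ_gens]; exact Subgroup.subset_closure ⟨k, rfl⟩
      · rw [hsm, hgφ]; exact (refl_spec k).2 i
    | one => exact ⟨1, one_mem _, fun i => one_smul _ _⟩
    | mul a b _ _ ha hb =>
      obtain ⟨p, hp, hpe⟩ := ha
      obtain ⟨q, hq, hqe⟩ := hb
      exact ⟨p * q, mul_mem hp hq, fun i => by rw [mul_smul, hqe, hpe, Equiv.Perm.mul_apply]⟩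
    | inv a _ ha =>
      obtain ⟨p, hp, hpe⟩ := ha
      refine ⟨p⁻¹, inv_mem hp, fun i => ?_⟩
      rw [inv_smul_eq_iff, hpe, ← Equiv.Perm.mul_apply, mul_inv_cancel, Equiv.Perm.one_apply]
  choose q hqK hqs using fun g : Hg => hprop g g.2
  let χ : Hg →* K315 := MonoidHom.mk' (fun g => ⟨q g, hqK g⟩) fun a b => Subtype.ext <|
    Equiv.ext fun i => sig_inj <| by
      rw [Subgroup.coe_mul, Equiv.Perm.mul_apply, ← hqs, ← hqs, ← hqs, Subgroup.coe_mul, mul_smul]
  have hsurj : Function.Surjective χ := by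
    rintro ⟨p, hp⟩
    have hp' : p ∈ (K315.subtype.comp χ).range := by
      have hsub : K315 ≤ (K315.subtype.comp χ).range := by
        conv_lhs => rw [K315, range_piJ_gens]
        rw [Subgroup.closure_le]
        rintro _ ⟨k, rfl⟩
        refine ⟨⟨hg k, Subgroup.subset_closure ⟨k, rfl⟩⟩, Equiv.ext fun i => sig_inj ?_⟩
        change sig (q _ i) = _
        rw [← hqs, hsm, hgφ]
        exact (refl_spec k).2 i
      exact hsub hp
    obtain ⟨g, hg⟩ := hp'
    exact ⟨g, Subtype.ext hg⟩
  have hHgc : 604800 ≤ Nat.card Hg :=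
    card_K315 ▸ Nat.card_le_card_of_surjective χ hsurj
  have heq : Hg = H := Subgroup.eq_of_le_of_card_ge hle (hH6 ▸ hHgc)
  have hbij : Function.Bijective χ := by
    refine ⟨?_, hsurj⟩
    have hc : Nat.card Hg = Nat.card K315 := by rw [heq, hH6, card_K315]
    exact ((Nat.bijective_iff_surjective_and_card χ).2 ⟨hsurj, hc⟩).1
  have hiso : IsoJ2 H :=
    ⟨(MulEquiv.subgroupCongr heq.symm).trans
      ((MulEquiv.ofBijective χ hbij).trans JankoTwo.j2Equiv.symm)⟩
  -- transitivity of `H` on the suborbits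
  have hHsig : ∀ j : Fin 315, ∃ g ∈ H, g • sig 0 = sig j := by
    intro j
    obtain ⟨g, hgj⟩ := JankoTwo.piJ_trans 0 j
    obtain ⟨u, hu⟩ := hsurj ⟨JankoTwo.piJ g, ⟨g, rfl⟩⟩
    refine ⟨u, hle u.2, ?_⟩
    rw [hqs u 0]
    exact congrArg sig ((congrArg (fun p : K315 => (p : Equiv.Perm (Fin 315)) 0) hu).trans hgj)
  have hHhund : ∀ j : Fin 100, ∃ g ∈ H, g • hund 0 = hund j := by
    intro j
    have hok : ∀ c ∈ (List.range 4).map (fun k => node (stabNodes.getD k 0)),
        CodePerm 9 416 c := by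
      intro c hc
      obtain ⟨k, hk, rfl⟩ := List.mem_map.1 hc
      exact node_ok (lengths.2.2.2.2 ⟨k, List.mem_range.1 hk⟩)
    obtain ⟨-, g, hgH, hge⟩ := tree_reach φ (K := H) hundred_tree hok (fun c hc => by
      obtain ⟨k, hk, rfl⟩ := List.mem_map.1 hc
      exact ⟨hg ⟨k, List.mem_range.1 hk⟩, hle (Subgroup.subset_closure ⟨_, rfl⟩), hgφ _⟩) j j.2
    exact ⟨g, hgH, hge⟩
  -- maximality in `G`
  have hco : IsCoatom H := by
    let S : Fin 2 → Finset (Fin 416) := ![Finset.univ.image hund, Finset.univ.image sig]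
    have h := isCoatom_stab (⊤ : Subgroup G) (pnt 0) S 416
      (by
        have : MulAction.orbit (⊤ : Subgroup G) (pnt 0) = Set.univ :=
          Set.eq_univ_of_forall fun x => by
            obtain ⟨g, hg⟩ := htrans x; exact ⟨⟨g, trivial⟩, hg⟩
        rw [this, Set.ncard_univ, Nat.card_fin])
      (by norm_num)
      (by
        intro i
        fin_cases i <;> simp [S, hund_ne, sig_ne])
      (fun i y _ => by obtain ⟨g, hg⟩ := htrans y; exact ⟨⟨g, trivial⟩, hg⟩)
      (fun y _ hy => by
        rcases cls_cases y with h | ⟨i, rfl⟩ | ⟨i, rfl⟩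
        · exact absurd h hy
        · exact ⟨0, by simp [S]⟩
        · exact ⟨1, by simp [S]⟩)
      (by
        intro i j hij
        fin_cases i <;> fin_cases j <;> simp_all [S, Finset.disjoint_left, hund_ne_sig,
          fun a b => (hund_ne_sig a b).symm])
      (by
        intro i y hy z hz
        fin_cases i
        · simp [S] at hy hz
          obtain ⟨a, rfl⟩ := hy
          obtain ⟨b, rfl⟩ := hz
          obtain ⟨g, hgH, hga⟩ := hHhund a
          obtain ⟨g', hgH', hgb⟩ := hHhund b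
          exact ⟨g' * g⁻¹, trivial, mul_mem hgH' (inv_mem hgH),
            by rw [mul_smul, inv_smul_eq_iff.2 hga.symm, hgb]⟩
        · simp [S] at hy hz
          obtain ⟨a, rfl⟩ := hy
          obtain ⟨b, rfl⟩ := hz
          obtain ⟨g, hgH, hga⟩ := hHsig a
          obtain ⟨g', hgH', hgb⟩ := hHsig b
          exact ⟨g' * g⁻¹, trivial, mul_mem hgH' (inv_mem hgH),
            by rw [mul_smul, inv_smul_eq_iff.2 hga.symm, hgb]⟩)
      (by
        have h1 : (S 0).card = 100 := by simp [S, Finset.card_image_of_injective _ hund_inj]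
        have h2 : (S 1).card = 315 := by simp [S, Finset.card_image_of_injective _ sig_inj]
        intro T hT hd
        rw [Finset.sum_congr rfl (g := fun i => if i = 0 then 100 else 315) (fun i _ => by
          fin_cases i
          · simpa using h1
          · simpa using h2)] at hd
        revert T
        decide)
    rw [top_inf_eq] at h
    have h2 := (OrderIso.isCoatom_iff (MulEquiv.mapSubgroup Subgroup.topEquiv) _).2 h
    convert h2 using 1
    ext g
    change _ ↔ g ∈ Subgroup.map (Subgroup.topEquiv (G := G)).toMonoidHom _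
    rw [Subgroup.mem_map_equiv]
    rfl
  -- the stabiliser of a point of the second suborbit
  have hco315 : IsCoatom ((H ⊓ MulAction.stabilizer G (sig 0)).subgroupOf H) := by
    let S : Fin 5 → Finset (Fin 416) := fun k =>
      (Finset.range (sizes315.getD k 0)).image fun j =>
        pnt (getField 9 sigCode (getField 9 (trees315.getD k (0, 0, 0)).1 j))
    have hmem : ∀ (k : Fin 5), ∀ y ∈ S k, ∃ j < sizes315.getD k 0, ∃ h :
        getField 9 (trees315.getD k (0, 0, 0)).1 j < 315,
          sig ⟨getField 9 (trees315.getD k (0, 0, 0)).1 j, h⟩ = y := by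
      intro k y hy
      simp only [S, Finset.mem_image, Finset.mem_range] at hy
      obtain ⟨j, hj, rfl⟩ := hy
      obtain ⟨hl, -⟩ := tree_reach315 (trees315_ok k) j hj
      exact ⟨j, hj, hl, rfl⟩
    have hlift : ∀ p ∈ K315, ∃ g ∈ H, ∀ i, g • sig i = sig (p i) := fun p hp => by
      obtain ⟨u, hu⟩ := hsurj ⟨p, hp⟩
      exact ⟨u, hle u.2, fun i => by rw [hqs u i]; exact congrArg sig (congrArg
        (fun p : K315 => (p : Equiv.Perm (Fin 315)) i) hu)⟩
    have hcards : ∀ k : Fin 5, (S k).card = sizes315.getD k 0 := by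
      intro k
      rw [Finset.card_image_of_injOn, Finset.card_range]
      intro a ha b hb e
      simp only [Finset.coe_range, Set.mem_Iio] at ha hb
      obtain ⟨hla, -⟩ := tree_reach315 (trees315_ok k) a ha
      obtain ⟨hlb, -⟩ := tree_reach315 (trees315_ok k) b hb
      have := sig_inj (a₁ := ⟨_, hla⟩) (a₂ := ⟨_, hlb⟩) e
      have sle : ∀ k : Fin 5, sizes315.getD k 0 ≤ 160 := by decide
      exact trees315_inj k ⟨a, lt_of_lt_of_le ha (sle k)⟩ ⟨b, lt_of_lt_of_le hb (sle k)⟩
        ha hb (congrArg Fin.val this)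
    refine isCoatom_stab H (sig 0) S 315 ?_ (by norm_num) ?_ ?_ ?_ ?_ ?_ ?_
    · have : MulAction.orbit H (sig 0) = Set.range sig := by
        ext y
        constructor
        · rintro ⟨⟨g, hgH⟩, rfl⟩
          obtain ⟨p, -, hp⟩ := hprop g (heq ▸ hgH)
          exact ⟨p 0, (hp 0).symm⟩
        · rintro ⟨j, rfl⟩
          obtain ⟨g, hgH, hg⟩ := hHsig j
          exact ⟨⟨g, hgH⟩, hg⟩
      rw [this, Set.ncard_range_of_injective sig_inj, Nat.card_fin]
    · intro k h0
      obtain ⟨j, hj, hl, he⟩ := hmem k _ h0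
      exact trees315_ne k j hj (congrArg Fin.val (sig_inj he))
    · intro k y hy
      obtain ⟨j, hj, hl, rfl⟩ := hmem k y hy
      obtain ⟨g, hgH, hg⟩ := hHsig ⟨_, hl⟩
      exact ⟨⟨g, hgH⟩, hg⟩
    · rintro _ ⟨⟨g, hgH⟩, rfl⟩ hne
      obtain ⟨p, -, hp⟩ := hprop g (heq ▸ hgH)
      change g • sig 0 ≠ sig 0 at hne
      change ∃ k, g • sig 0 ∈ S k
      rw [hp 0] at hne ⊢
      have hc := allBelow_eq_true.mp trees315_cover (p 0) (p 0).2
      simp only [Bool.or_eq_true, Nat.beq_eq, List.any_eq_true, List.mem_range] at hc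
      obtain h0 | ⟨k, hk, j, hj, he⟩ := hc
      · exact absurd (congrArg sig (Fin.ext h0 : p 0 = 0)) hne
      refine ⟨⟨k, hk⟩, Finset.mem_image.2 ⟨j, Finset.mem_range.2 hj, ?_⟩⟩
      rw [sig, ← he]
    · intro a b hab
      rw [Finset.disjoint_left]
      intro y hya hyb
      obtain ⟨i, hi, hli, rfl⟩ := hmem a y hya
      obtain ⟨j, hj, hlj, he⟩ := hmem b _ hyb
      exact trees315_disj a b hab i hi j hj (congrArg Fin.val (sig_inj he)).symm
    · intro k y hy z hz
      obtain ⟨i, hi, hli, rfl⟩ := hmem k y hy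
      obtain ⟨j, hj, hlj, rfl⟩ := hmem k z hz
      obtain ⟨_, h0, p, hp, hp0, hpe⟩ := tree_reach315 (trees315_ok k) i hi
      obtain ⟨_, _, p', hp', hp0', hpe'⟩ := tree_reach315 (trees315_ok k) j hj
      obtain ⟨g, hgH, hg⟩ := hlift (p' * p⁻¹) (mul_mem hp' (inv_mem hp))
      refine ⟨g, hgH, ?_, ?_⟩
      · rw [hg, Equiv.Perm.mul_apply, (Equiv.Perm.inv_eq_iff_eq).2 hp0.symm, hp0']
      · rw [hg, Equiv.Perm.mul_apply, (Equiv.Perm.inv_eq_iff_eq).2 hpe.symm, hpe']
    · intro T hT hd
      rw [Finset.sum_congr rfl (fun i _ => hcards i)] at hd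
      revert T
      decide +kernel
  -- the stabiliser of a point of the first suborbit
  have hco100 : IsCoatom ((H ⊓ MulAction.stabilizer G (hund 0)).subgroupOf H) := by
    have hsc : ∀ c ∈ stabCodes, CodePerm 9 416 c ∧
        ∃ x ∈ H ⊓ MulAction.stabilizer G (hund 0), φ x = rep416.den c := by
      intro c hc
      have h := stab_ok
      simp only [stabB, Bool.and_eq_true, allBelow_eq_true, Nat.beq_eq] at h
      obtain ⟨⟨hlen, -⟩, hall⟩ := h
      obtain ⟨k, hk, rfl⟩ := List.getElem_of_mem hc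
      obtain ⟨⟨hok, hfix⟩, hmul⟩ := hall k (by omega)
      rw [List.getD_eq_getElem _ _ hk] at hok hfix hmul
      have hok' := codePerm_of_check hok
      refine ⟨hok', ?_⟩
      have hw : ∀ l : List ℕ, (∀ j ∈ l, j < 4) →
          CodePerm 9 416 (hCode l) ∧ ∃ x ∈ H, φ x = rep416.den (hCode l) := by
        intro l
        induction l with
        | nil =>
          intro _
          rw [hCode_nil]
          exact ⟨codePerm_id (by norm_num), 1, one_mem _, by rw [map_one, den_id]⟩
        | cons a l ih =>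
          intro hl
          obtain ⟨hok, x, hx, hxe⟩ := ih fun j hj => hl j (List.mem_cons_of_mem _ hj)
          have ha := node_ok (lengths.2.2.2.2 ⟨a, hl a List.mem_cons_self⟩)
          rw [hCode_cons]
          refine ⟨codePerm_comp ha hok, hg ⟨a, hl a List.mem_cons_self⟩ * x,
            mul_mem (hle (Subgroup.subset_closure ⟨_, rfl⟩)) hx, ?_⟩
          rw [map_mul, hgφ, hxe]
          exact (den_comp ha hok).symm
      have hws := stab_words ⟨k, by omega⟩
      obtain ⟨hokv, v, hv, hve⟩ := hw (stabWords.getD k ([], [])).1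
        (fun j hj => hws j (List.mem_append_left _ hj))
      obtain ⟨hokw, w, hw', hwe⟩ := hw (stabWords.getD k ([], [])).2
        (fun j hj => hws j (List.mem_append_right _ hj))
      have hx : φ (v⁻¹ * w) = rep416.den stabCodes[k] := by
        rw [map_mul, map_inv, inv_mul_eq_iff_eq_mul]
        refine Equiv.ext fun i => Fin.ext ?_
        rw [hwe, hve, Equiv.Perm.mul_apply, den_apply416 hokw, den_apply416 hokv,
          den_apply416 hok']
        exact (hmul i i.2).symm
      refine ⟨v⁻¹ * w, Subgroup.mem_inf.2 ⟨mul_mem (inv_mem hv) hw', ?_⟩, hx⟩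
      change (v⁻¹ * w) • hund 0 = hund 0
      rw [hsm, hx]
      exact Fin.ext (by
        rw [den_apply416 hok', hund, pnt_val (hund_lt (Fin.is_lt _))]
        exact hfix)
    have hr : ∀ (T : ℕ × ℕ × ℕ) (n : ℕ), treeB 9 n 416 stabCodes T = true → ∀ i < n,
        getField 9 T.1 i < 416 ∧ ∃ g ∈ H ⊓ MulAction.stabilizer G (hund 0),
          g • pnt (getField 9 T.1 0) = pnt (getField 9 T.1 i) := fun T n h i hi =>
      tree_reach φ h (fun c hc => (hsc c hc).1) (fun c hc => (hsc c hc).2) i hi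
    let size : Fin 2 → ℕ := ![36, 63]
    let tr : Fin 2 → ℕ × ℕ × ℕ := ![tree36, tree63]
    have htr : ∀ k, treeB 9 (size k) 416 stabCodes (tr k) = true := by
      intro k; fin_cases k
      exacts [small_trees.1, small_trees.2]
    let S : Fin 2 → Finset (Fin 416) := fun k =>
      (Finset.range (size k)).image fun j => pnt (getField 9 (tr k).1 j)
    have hmem : ∀ k, ∀ y ∈ S k, ∃ j < size k, pnt (getField 9 (tr k).1 j) = y ∧ (y : ℕ) =
        getField 9 (tr k).1 j := by
      intro k y hy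
      obtain ⟨j, hj, rfl⟩ := Finset.mem_image.1 hy
      rw [Finset.mem_range] at hj
      exact ⟨j, hj, rfl, pnt_val (hr _ _ (htr k) j hj).1⟩
    have hin : ∀ k, ∀ y ∈ S k, ∃ i, hund i = y ∧ i ≠ 0 := by
      intro k y hy
      obtain ⟨j, hj, rfl, -⟩ := hmem k y hy
      obtain ⟨i, hi, hie⟩ := small_trees_sub k j hj
      exact ⟨i, Fin.ext (by rw [hund, pnt_val (hund_lt i.2), pnt_val (hr _ _ (htr k) j hj).1]; exact hie), hi⟩
    have hcards : ∀ k, (S k).card = size k := by
      intro k
      rw [Finset.card_image_of_injOn, Finset.card_range]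
      intro a ha b hb e
      simp only [Finset.coe_range, Set.mem_Iio] at ha hb
      have := congrArg Fin.val e
      rw [pnt_val (hr _ _ (htr k) a ha).1, pnt_val (hr _ _ (htr k) b hb).1] at this
      exact small_trees_inj k a ha b hb this
    refine isCoatom_stab H (hund 0) S 100 ?_ (by norm_num) ?_ ?_ ?_ ?_ ?_ ?_
    · have : MulAction.orbit H (hund 0) = Set.range hund := by
        ext y
        constructor
        · rintro ⟨⟨g, hgH⟩, rfl⟩
          rcases cls_cases (g • hund 0) with h | ⟨i, hi⟩ | ⟨i, hi⟩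
          · exfalso
            exact hund_ne 0 (MulAction.injective g (h.trans (show g • pnt 0 = pnt 0 from hgH).symm))
          · exact ⟨i, hi⟩
          · exfalso
            obtain ⟨p, -, hp⟩ := hprop g (heq ▸ hgH)
            exact hund_ne_sig 0 (p⁻¹ i) (MulAction.injective g (by
              show g • hund 0 = g • sig (p⁻¹ i)
              rw [hp, ← Equiv.Perm.mul_apply, mul_inv_cancel, Equiv.Perm.one_apply, hi]))
        · rintro ⟨j, rfl⟩
          obtain ⟨g, hgH, hg⟩ := hHhund j
          exact ⟨⟨g, hgH⟩, hg⟩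
      rw [this, Set.ncard_range_of_injective hund_inj, Nat.card_fin]
    · intro k h0
      obtain ⟨i, hi, hi0⟩ := hin k _ h0
      exact hi0 (hund_inj hi)
    · intro k y hy
      obtain ⟨i, rfl, -⟩ := hin k y hy
      obtain ⟨g, hgH, hg⟩ := hHhund i
      exact ⟨⟨g, hgH⟩, hg⟩
    · rintro _ ⟨⟨g, hgH⟩, rfl⟩ hne
      rcases cls_cases (g • hund 0) with h | ⟨i, hi⟩ | ⟨i, hi⟩
      · exact absurd (MulAction.injective g (h.trans (show g • pnt 0 = pnt 0 from hgH).symm))
          (hund_ne 0)
      · change g • hund 0 ≠ hund 0 at hne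
        change ∃ k, g • hund 0 ∈ S k
        rw [← hi] at hne ⊢
        have hc := allBelow_eq_true.mp small_trees_cover i i.2
        simp only [Bool.or_eq_true, Nat.beq_eq, List.any_eq_true, List.mem_range] at hc
        rcases hc with (h0 | ⟨j, hj, he⟩) | ⟨j, hj, he⟩
        · exact absurd (congrArg hund (Fin.ext h0 : i = 0)) hne
        · exact ⟨0, Finset.mem_image.2 ⟨j, Finset.mem_range.2 hj, by
            rw [hund, ← he]; rfl⟩⟩
        · exact ⟨1, Finset.mem_image.2 ⟨j, Finset.mem_range.2 hj, by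
            rw [hund, ← he]; rfl⟩⟩
      · obtain ⟨p, -, hp⟩ := hprop g (heq ▸ hgH)
        exact absurd (MulAction.injective g (show g • hund 0 = g • sig (p⁻¹ i) by
          rw [hp, ← Equiv.Perm.mul_apply, mul_inv_cancel, Equiv.Perm.one_apply, hi])) (hund_ne_sig 0 _)
    · intro a b hab
      rw [Finset.disjoint_left]
      intro y hya hyb
      obtain ⟨i, hi, -, hiv⟩ := hmem a y hya
      obtain ⟨j, hj, -, hjv⟩ := hmem b y hyb
      exact small_trees_disj a b hab i hi j hj (hiv.symm.trans hjv)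
    · intro k y hy z hz
      obtain ⟨i, hi, rfl, -⟩ := hmem k y hy
      obtain ⟨j, hj, rfl, -⟩ := hmem k z hz
      obtain ⟨-, g, hgm, hge⟩ := hr _ _ (htr k) i hi
      obtain ⟨-, g', hgm', hge'⟩ := hr _ _ (htr k) j hj
      have hm := mul_mem hgm' (inv_mem hgm)
      exact ⟨g' * g⁻¹, (Subgroup.mem_inf.1 hm).1, (Subgroup.mem_inf.1 hm).2,
        by rw [mul_smul, inv_smul_eq_iff.2 hge.symm, hge']⟩
    · intro T hT hd
      rw [Finset.sum_congr rfl (fun i _ => hcards i)] at hd
      revert T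
      decide
  refine ⟨H, hco, hiso, fun x hx => ?_⟩
  rw [hH, ← MulAction.stabilizer_smul_eq_stabilizer_map_conj, ← hH]
  have hx0 : x • pnt 0 ≠ pnt 0 := hx
  rcases cls_cases (x • pnt 0) with h | ⟨i, hi⟩ | ⟨i, hi⟩
  · exact absurd h hx0
  · obtain ⟨g, hgH, hge⟩ := hHhund i
    rw [← hi, ← hge]
    exact isCoatom_stab_smul H (hund 0) hgH hco100
  · obtain ⟨g, hgH, hge⟩ := hHsig i
    rw [← hi, ← hge]
    exact isCoatom_stab_smul H (sig 0) hgH hco315

end Cfsg.Agent.G2FourJ2
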