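import Cfsg.Agent.G2FourJ2.Defs

/-!
Steinberg's commutator relations hold on the 416 points: first roots.
-/

set_option autoImplicit false
set_option maxRecDepth 100000
set_option maxHeartbeats 0

namespace Cfsg.Agent.G2FourJ2

open Cfsg.Lie
open Cfsg.Agent.G2Four (K)

/-- The commutator relations with first root `r`. -/
abbrev CommRel (r : Fin 12) : Prop :=
  ∀ s : Fin 12, (s : ℕ) ≠ r → (s : ℕ) ≠ chevG2.neg r → ∀ t u : K,
    wordCode [((s : ℕ), u), ((r : ℕ), t), ((s : ℕ), u), ((r : ℕ), t)] =
      wordCode (chevG2.commWord K r s t u)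

theorem comm_0 : CommRel 0 := by decide +kernel

theorem comm_1 : CommRel 1 := by decide +kernel

theorem comm_2 : CommRel 2 := by decide +kernel

theorem comm_3 : CommRel 3 := by decide +kernel

theorem comm_4 : CommRel 4 := by decide +kernel

theorem comm_5 : CommRel 5 := by decide +kernel

end Cfsg.Agent.G2FourJ2
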