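import Cfsg.Agent.G2FourJ2.RelA

/-!
Steinberg's commutator relations hold on the 416 points: last roots.
-/

set_option autoImplicit false
set_option maxRecDepth 100000
set_option maxHeartbeats 0

namespace Cfsg.Agent.G2FourJ2

open Cfsg.Lie

theorem comm_6 : CommRel 6 := by decide +kernel

theorem comm_7 : CommRel 7 := by decide +kernel

theorem comm_8 : CommRel 8 := by decide +kernel

theorem comm_9 : CommRel 9 := by decide +kernel

theorem comm_10 : CommRel 10 := by decide +kernel

theorem comm_11 : CommRel 11 := by decide +kernel

end Cfsg.Agent.G2FourJ2
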