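import Cfsg.Agent.G2FourJ2.RelB
import Cfsg.Agent.G2FourJ2.Check
import Cfsg.Agent.G2Four.Action

/-!
`G2(4)` acts on 416 points.
-/

set_option autoImplicit false

namespace Cfsg.Agent.G2FourJ2

open Cfsg.Agent.Compute Cfsg.Lie
open Cfsg.Agent.G2Four (K enc)

theorem den_apply416 {p : ℕ} (hp : CodePerm 9 416 p) (i : Fin 416) :
    (rep416.den p i : ℕ) = getField 9 p i := by
  have h := denPerm_apply (Equiv.refl (Fin 416)) hp i
  simp only [Equiv.refl_apply] at h
  exact congrArg Fin.val h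

theorem node_ok {i : ℕ} (hi : i < 48 + slpCodes.length) : CodePerm 9 416 (node i) :=
  codePerm_of_check (allBelow_eq_true.mp nodes_ok i hi)

theorem node_lt48 {i : ℕ} (hi : i < 48) : node i = rootCodes.getD i 0 := by
  simp [node, Nat.blt_eq, hi, cond_eq]

theorem enc_lt (t : K) : enc t < 4 := by cases t <;> decide

theorem rootCode_ok {r : ℕ} (hr : r < 12) (t : K) : CodePerm 9 416 (rootCode r t) := by
  have ht := enc_lt t
  have h : 4 * r + enc t < 48 := by omega
  have := node_ok (i := 4 * r + enc t) (by omega)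
  rwa [node_lt48 h] at this

attribute [local irreducible] compCode idCode rootCode in
theorem wordCode_cons (p : ℕ × K) (l : List (ℕ × K)) :
    wordCode (p :: l) = compCode 9 416 (rootCode p.1 p.2) (wordCode l) := rfl

attribute [local irreducible] compCode idCode rootCode in
theorem wordCode_nil : wordCode [] = idCode 9 416 := rfl

theorem den_comp_aux {w n : ℕ} (hn : n ≤ 2 ^ w) (hpos : 0 < n) {p q : ℕ} (hp : CodePerm w n p)
    (hq : CodePerm w n q) :
    (permRep w n (Equiv.refl (Fin n)) hn hpos).den (compCode w n p q) =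
      (permRep w n (Equiv.refl (Fin n)) hn hpos).den p *
        (permRep w n (Equiv.refl (Fin n)) hn hpos).den q :=
  (permRep w n (Equiv.refl (Fin n)) hn hpos).den_mul p q hp hq

theorem den_id_aux {w n : ℕ} (hn : n ≤ 2 ^ w) (hpos : 0 < n) :
    (permRep w n (Equiv.refl (Fin n)) hn hpos).den (idCode w n) = 1 :=
  (permRep w n (Equiv.refl (Fin n)) hn hpos).den_one

theorem den_comp {p q : ℕ} (hp : CodePerm 9 416 p) (hq : CodePerm 9 416 q) :
    rep416.den (compCode 9 416 p q) = rep416.den p * rep416.den q := by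
  unfold rep416; exact den_comp_aux _ _ hp hq

theorem den_id : rep416.den (idCode 9 416) = 1 := by
  unfold rep416; exact den_id_aux _ _

/-- The permutation of a root element. -/
noncomputable def gPerm (r : ℕ) (t : K) : Equiv.Perm (Fin 416) :=
  if r < 12 then rep416.den (rootCode r t) else 1

/-- The permutation of a word. -/
noncomputable def wPerm (l : List (ℕ × K)) : Equiv.Perm (Fin 416) :=
  (l.map fun p => gPerm p.1 p.2).prod

theorem wPerm_spec : ∀ (l : List (ℕ × K)), (∀ p ∈ l, p.1 < 12) →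
    CodePerm 9 416 (wordCode l) ∧ wPerm l = rep416.den (wordCode l)
  | [], _ => by rw [wordCode_nil]; exact ⟨codePerm_id (by norm_num), den_id.symm⟩
  | p :: l, h => by
    obtain ⟨h1, h2⟩ := wPerm_spec l (fun q hq => h q (List.mem_cons_of_mem _ hq))
    have hp := h p List.mem_cons_self
    rw [wordCode_cons]
    refine ⟨codePerm_comp (rootCode_ok hp p.2) h1, ?_⟩
    have : wPerm (p :: l) = gPerm p.1 p.2 * wPerm l := by simp [wPerm]
    rw [this, h2, gPerm, if_pos hp]
    exact (den_comp (rootCode_ok hp p.2) h1).symm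

theorem wPerm_congr {l m : List (ℕ × K)} (hl : ∀ p ∈ l, p.1 < 12) (hm : ∀ p ∈ m, p.1 < 12)
    (h : wordCode l = wordCode m) : wPerm l = wPerm m := by
  rw [(wPerm_spec l hl).2, (wPerm_spec m hm).2, h]

theorem wPerm_append (l m : List (ℕ × K)) : wPerm (l ++ m) = wPerm l * wPerm m := by
  rw [wPerm, wPerm, wPerm, List.map_append, List.prod_append]

theorem gPerm_inv {r : ℕ} (hr : r < 12) (t : K) : (gPerm r t)⁻¹ = wPerm [(r, t)] := by
  have h : wPerm [(r, t), (r, t)] = 1 := by
    rw [(wPerm_spec _ (by simp [hr])).2]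
    exact (congrArg rep416.den (sq_rel ⟨r, hr⟩ t)).trans den_id
  rw [inv_eq_iff_mul_eq_one]
  simpa [wPerm] using h

theorem gen_comm' (r : Fin 12) : CommRel r := by
  fin_cases r
  exacts [comm_0, comm_1, comm_2, comm_3, comm_4, comm_5, comm_6, comm_7, comm_8, comm_9, comm_10,
    comm_11]

universe u

section

variable {F : Type u} [Field F] (ψ : F →+* K)

/-- The image of a generator of the Steinberg group. -/
noncomputable def genImage (z : Fin chevG2.nroots × F) : Equiv.Perm (Fin 416) := gPerm z.1 (ψ z.2)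

theorem lift_stWord (l : List (ℕ × F)) :
    FreeGroup.lift (genImage ψ) (chevG2.stWord l) = wPerm (l.map fun p => (p.1, ψ p.2)) := by
  simp only [ChevalleyDatum.stWord, map_list_prod, List.map_map, wPerm]
  refine congrArg List.prod (List.map_congr_left fun p _ => ?_)
  simp only [Function.comp_apply, ChevalleyDatum.stX]
  by_cases h : p.1 < 12
  · rw [dif_pos (show p.1 < chevG2.nroots from h), FreeGroup.lift_apply_of]; rfl
  · rw [dif_neg (show ¬ p.1 < chevG2.nroots from h), map_one, gPerm, if_neg h]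

theorem lift_stX {r : ℕ} (hr : r < 12) (t : F) :
    FreeGroup.lift (genImage ψ) (chevG2.stX r t) = wPerm [(r, ψ t)] := by
  rw [ChevalleyDatum.stX, dif_pos (show r < chevG2.nroots from hr), FreeGroup.lift_apply_of, wPerm]
  simp [genImage]

theorem lift_stX_inv {r : ℕ} (hr : r < 12) (t : F) :
    (FreeGroup.lift (genImage ψ) (chevG2.stX r t))⁻¹ = wPerm [(r, ψ t)] := by
  rw [lift_stX ψ hr]
  have := gPerm_inv hr (ψ t)
  simpa [wPerm] using this

theorem lift_rels : ∀ g ∈ chevG2.steinbergRels F, FreeGroup.lift (genImage ψ) g = 1 := by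
  rintro g ((⟨r, t₁, t₂, hr, rfl⟩ | ⟨r, s, t, u, hr, hs, h1, h2, rfl⟩) |
    ⟨r, t₁, t₂, hr, ht₁, ht₂, rfl⟩)
  · have hr' : r < 12 := hr
    rw [map_mul, map_mul, map_inv, mul_inv_eq_one, lift_stX ψ hr', lift_stX ψ hr', lift_stX ψ hr',
      map_add, ← wPerm_append]
    exact wPerm_congr (by simp [hr']) (by simp [hr']) (add_rel ⟨r, hr'⟩ _ _)
  · have hr' : r < 12 := hr
    have hs' : s < 12 := hs
    simp only [map_mul, map_inv]
    rw [mul_inv_eq_one, lift_stX_inv ψ hs', lift_stX_inv ψ hr', lift_stX ψ hs', lift_stX ψ hr',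
      lift_stWord, G2Four.map_commWord, ← wPerm_append, ← wPerm_append, ← wPerm_append]
    refine wPerm_congr (by simp [hr', hs']) ?_ (gen_comm' ⟨r, hr'⟩ ⟨s, hs'⟩ h1 h2 _ _)
    intro p hp
    obtain ⟨c, hc, rfl⟩ := List.mem_map.1 hp
    exact G2Four.commWord_lt ⟨r, hr'⟩ ⟨s, hs'⟩ c hc
  · have hr' : r < 12 := hr
    rw [map_mul, map_mul, map_inv, mul_inv_eq_one]
    simp only [ChevalleyDatum.stH, lift_stWord, G2Four.map_hWord, map_mul]
    rw [← wPerm_append]
    refine wPerm_congr ?_ (G2Four.lt_of_mem_hWord hr' _)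
      (h_rel ⟨r, hr'⟩ _ _ (by simpa using ht₁) (by simpa using ht₂))
    intro p hp
    rcases List.mem_append.1 hp with h | h
    exacts [G2Four.lt_of_mem_hWord hr' _ p h, G2Four.lt_of_mem_hWord hr' _ p h]

/-- The action of the Steinberg group on 416 points. -/
noncomputable def stPerm : chevG2.SteinbergGroup F →* Equiv.Perm (Fin 416) :=
  PresentedGroup.toGroup (lift_rels ψ)

theorem stPerm_stWord (l : List (ℕ × F)) :
    stPerm ψ (PresentedGroup.mk (chevG2.steinbergRels F) (chevG2.stWord l)) =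
      wPerm (l.map fun p => (p.1, ψ p.2)) := by
  rw [← lift_stWord ψ l]
  rfl

end

theorem enc_surj : ∀ j : Fin 4, ∃ t : K, enc t = (j : ℕ) := fun j => by
  fin_cases j
  exacts [⟨.o, rfl⟩, ⟨.e, rfl⟩, ⟨.w, rfl⟩, ⟨.w', rfl⟩]

/-- A homomorphism of `G2(4)` whose range contains all the root permutations. -/
theorem exists_hom {F : Type u} [Field F] [Fintype F] (hF : Fintype.card F = 4) :
    ∃ φ : ↥(chevG2.group F) →* Equiv.Perm (Fin 416),
      Nat.card ↥(chevG2.group F) = 251596800 ∧
      ∀ i < 48, rep416.den (node i) ∈ φ.range := by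
  obtain ⟨e⟩ := G2Four.exists_steinberg_equiv F
  let ψ : F ≃+* K := FiniteField.ringEquivOfCardEq
    (hF.trans Cfsg.Agent.ThreeTrans.SU32.F4.card_eq.symm)
  refine ⟨(stPerm (ψ : F →+* K)).comp e.symm.toMonoidHom, ?_, fun i hi => ?_⟩
  · rw [← Nat.card_congr e.toEquiv, G2Four.card_steinberg hF]
  obtain ⟨t, ht⟩ := enc_surj ⟨i % 4, Nat.mod_lt _ (by norm_num)⟩
  refine ⟨e (PresentedGroup.mk _ (chevG2.stWord [(i / 4, ψ.symm t)])), ?_⟩
  rw [MonoidHom.comp_apply, MulEquiv.coe_toMonoidHom, MulEquiv.symm_apply_apply, stPerm_stWord]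
  have hr : i / 4 < 12 := by omega
  rw [node_lt48 hi]
  simp only [List.map_cons, List.map_nil, RingHom.coe_coe, RingEquiv.apply_symm_apply]
  rw [(wPerm_spec [(i / 4, t)] (by simp [hr])).2]
  have h1 : rootCode (i / 4) t = rootCodes.getD i 0 := by
    rw [rootCode, ht]
    congr 1
    change 4 * (i / 4) + i % 4 = i
    omega
  rw [← h1, wordCode_cons, wordCode_nil, den_comp (rootCode_ok hr t) (codePerm_id (by norm_num)),
    den_id, mul_one]

end Cfsg.Agent.G2FourJ2
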